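import Mathlib.CategoryTheory.Abelian.Refinements
import Mathlib.CategoryTheory.Subobject.Limits
import Mathlib.Data.Nat.Prime.Basic
import Mathlib.Tactic.Ring

/-! Points of subobjects, divisibility and the Mittag-Leffler condition in abelian categories. -/

set_option autoImplicit false
universe v u

open CategoryTheory CategoryTheory.Limits

namespace Groth.Agent.IndCof16

variable {V : Type u} [Category.{v} V] [Abelian V]

/-- A point factoring through a subobject. -/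
abbrev Mem {A W : V} (S : Subobject A) (x : W ⟶ A) : Prop :=
  ∃ z : W ⟶ (S : V), z ≫ S.arrow = x

theorem exists_cover {A B W : V} (f : A ⟶ B) [Epi f] (x : W ⟶ B) :
    ∃ (W' : V) (e : W' ⟶ W) (a : W' ⟶ A), Epi e ∧ a ≫ f = e ≫ x :=
  let ⟨W', e, he, a, ha⟩ := surjective_up_to_refinements_of_epi f x
  ⟨W', e, a, he, ha.symm⟩

/-- A point killed by the cokernel comes locally from the source. -/
theorem exists_preimage {A B W : V} (f : A ⟶ B) (x : W ⟶ B) (h : x ≫ cokernel.π f = 0) :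
    ∃ (W' : V) (e : W' ⟶ W) (a : W' ⟶ A), Epi e ∧ a ≫ f = e ≫ x := by
  let S : ShortComplex V := ShortComplex.mk f (cokernel.π f) (cokernel.condition f)
  have hS : S.Exact := S.exact_of_g_is_cokernel (cokernelIsCokernel f)
  obtain ⟨W', e, he, a, ha⟩ := hS.exact_up_to_refinements x h
  exact ⟨W', e, a, he, ha.symm⟩

theorem mem_descend {A W W' : V} {S : Subobject A} {x : W ⟶ A} (e : W' ⟶ W) [Epi e]
    (h : Mem S (e ≫ x)) : Mem S x := by
  obtain ⟨z, hz⟩ := h
  have hx : x ≫ cokernel.π S.arrow = 0 := by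
    rw [← cancel_epi e, comp_zero, ← Category.assoc, ← hz, Category.assoc, cokernel.condition, comp_zero]
  exact ⟨Abelian.monoLift S.arrow x hx, Abelian.monoLift_comp _ _ _⟩

theorem mem_comp {A W W' : V} {S : Subobject A} {x : W ⟶ A} (k : W' ⟶ W) (h : Mem S x) : Mem S (k ≫ x) :=
  ⟨k ≫ h.choose, by rw [Category.assoc, h.choose_spec]⟩

theorem mem_of_le {A W : V} {S T : Subobject A} (h : S ≤ T) {x : W ⟶ A} (hx : Mem S x) : Mem T x :=
  ⟨hx.choose ≫ S.ofLE T h, by rw [Category.assoc, Subobject.ofLE_arrow, hx.choose_spec]⟩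

theorem mem_image {A B W : V} (f : A ⟶ B) (a : W ⟶ A) : Mem (imageSubobject f) (a ≫ f) :=
  ⟨a ≫ factorThruImageSubobject f, by rw [Category.assoc, imageSubobject_arrow_comp]⟩

theorem exists_of_mem_image {A B W : V} (f : A ⟶ B) {x : W ⟶ B} (h : Mem (imageSubobject f) x) :
    ∃ (W' : V) (e : W' ⟶ W) (a : W' ⟶ A), Epi e ∧ a ≫ f = e ≫ x := by
  obtain ⟨z, rfl⟩ := h
  obtain ⟨W', e, a, he, ha⟩ := exists_cover (factorThruImageSubobject f) z
  refine ⟨W', e, a, he, ?_⟩
  rw [← Category.assoc, ← ha, Category.assoc, imageSubobject_arrow_comp]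

theorem image_le {A B : V} (f : A ⟶ B) {S : Subobject B} (h : Mem S f) : imageSubobject f ≤ S :=
  imageSubobject_le f h.choose h.choose_spec

theorem mem_add {A W : V} {S : Subobject A} {x y : W ⟶ A} (hx : Mem S x) (hy : Mem S y) : Mem S (x + y) :=
  ⟨hx.choose + hy.choose, by rw [Preadditive.add_comp, hx.choose_spec, hy.choose_spec]⟩

theorem mem_nsmul {A W : V} {S : Subobject A} (n : ℕ) {x : W ⟶ A} (hx : Mem S x) : Mem S (n • x) :=
  ⟨n • hx.choose, by rw [Preadditive.nsmul_comp, hx.choose_spec]⟩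

theorem comp_smul_id {A B : V} (n : ℕ) (x : A ⟶ B) : x ≫ (n • 𝟙 B) = n • x := by
  rw [Preadditive.comp_nsmul, Category.comp_id]

theorem smul_id_comp {A B : V} (n : ℕ) (x : A ⟶ B) : (n • 𝟙 A) ≫ x = n • x := by
  rw [Preadditive.nsmul_comp, Category.id_comp]

theorem mem_smul {A W : V} (n : ℕ) (x : W ⟶ A) : Mem (imageSubobject (n • 𝟙 A)) (n • x) :=
  (comp_smul_id n x) ▸ mem_image (n • 𝟙 A) x

theorem image_smul_comp_le {A : V} (a b : ℕ) :
    imageSubobject ((a * b) • 𝟙 A) ≤ imageSubobject (a • 𝟙 A) := by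
  refine image_le _ ?_
  have := mem_image (a • 𝟙 A) (b • 𝟙 A)
  rwa [comp_smul_id, smul_smul] at this

/-- A divisible subobject lies in every multiple. -/
theorem divisible_le {A : V} (D : Subobject A) (M : ℕ) [Epi (M • 𝟙 (D : V))] :
    D ≤ imageSubobject (M • 𝟙 A) := by
  obtain ⟨z, hz⟩ : Mem (imageSubobject (M • 𝟙 A)) D.arrow := by
    refine mem_descend (M • 𝟙 (D : V)) ?_
    have := mem_image (M • 𝟙 A) D.arrow
    rw [comp_smul_id] at this
    rw [smul_id_comp]
    exact this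
  exact Subobject.le_of_comm z hz

/-- If the multiples stabilize, the stable one is divisible. -/
theorem epi_smul_image {A : V} (m k : ℕ)
    (h : imageSubobject ((m * k) • 𝟙 A) = imageSubobject (m • 𝟙 A)) :
    Epi (k • 𝟙 ((imageSubobject (m • 𝟙 A) : Subobject A) : V)) := by
  obtain ⟨W', e, a, he, ha⟩ := exists_of_mem_image ((m * k) • 𝟙 A)
    (x := (imageSubobject (m • 𝟙 A)).arrow) (by rw [h]; exact ⟨𝟙 _, Category.id_comp _⟩)
  have : (a ≫ factorThruImageSubobject (m • 𝟙 A)) ≫ (k • 𝟙 _) = e := by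
    rw [comp_smul_id, ← cancel_mono (imageSubobject (m • 𝟙 A)).arrow, Preadditive.nsmul_comp,
      Category.assoc, imageSubobject_arrow_comp, ← ha, comp_smul_id, comp_smul_id, smul_smul, mul_comm]
  haveI : Epi ((a ≫ factorThruImageSubobject (m • 𝟙 A)) ≫ (k • 𝟙 _)) := this ▸ he
  exact epi_of_epi (a ≫ factorThruImageSubobject (m • 𝟙 A)) _

theorem image_smul_eq_of_divisible {B : V} (B' : Subobject B) (hB' : ∀ k : ℕ, 0 < k → Epi (k • 𝟙 (B' : V)))
    {M : ℕ} (hM : 0 < M) (hMc : M • 𝟙 (cokernel B'.arrow) = 0) {j : ℕ} (hj : 0 < j) :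
    imageSubobject ((M * j) • 𝟙 B) = B' := by
  haveI := hB' (M * j) (Nat.mul_pos hM hj)
  refine le_antisymm ((image_smul_comp_le M j).trans (image_le _ ?_)) (divisible_le B' (M * j))
  have hx : (M • 𝟙 B) ≫ cokernel.π B'.arrow = 0 := by
    rw [smul_id_comp, ← comp_smul_id, hMc, comp_zero]
  exact ⟨Abelian.monoLift B'.arrow _ hx, Abelian.monoLift_comp _ _ _⟩

/-- The Mittag-Leffler condition for multiplication maps. -/
theorem ml_iff (B : V) :
    ((∀ n : ℕ, 0 < n → ∃ m : ℕ, 0 < m ∧ n ∣ m ∧ ∀ m' : ℕ, 0 < m' → m ∣ m' →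
        imageSubobject ((m' / n) • 𝟙 B) = imageSubobject ((m / n) • 𝟙 B)) ↔
      ∃ B' : Subobject B, (∀ k : ℕ, 0 < k → Epi (k • 𝟙 (B' : V))) ∧
        ∃ M : ℕ, 0 < M ∧ M • 𝟙 (cokernel B'.arrow) = 0) ∧
    (∀ B' : Subobject B, (∀ k : ℕ, 0 < k → Epi (k • 𝟙 (B' : V))) →
      (∃ M : ℕ, 0 < M ∧ M • 𝟙 (cokernel B'.arrow) = 0) →
      ∀ D : Subobject B, (∀ k : ℕ, 0 < k → Epi (k • 𝟙 (D : V))) → D ≤ B') := by
  refine ⟨⟨fun h => ?_, fun ⟨B', hB', M, hM, hMc⟩ n hn => ?_⟩, fun B' hB' ⟨M, hM, hMc⟩ D hD => ?_⟩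
  · obtain ⟨m, hm, -, hst⟩ := h 1 one_pos
    refine ⟨imageSubobject (m • 𝟙 B), fun k hk => epi_smul_image m k ?_, m, hm, ?_⟩
    · simpa using hst (m * k) (Nat.mul_pos hm hk) (dvd_mul_right m k)
    · rw [← cancel_epi (cokernel.π _), comp_zero, comp_smul_id]
      refine (smul_id_comp m _).symm.trans ?_
      refine ((congrArg (· ≫ cokernel.π (imageSubobject (m • 𝟙 B)).arrow) (imageSubobject_arrow_comp (m • 𝟙 B))).symm.trans ?_)
      rw [Category.assoc, cokernel.condition, comp_zero]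
  · refine ⟨M * n, Nat.mul_pos hM hn, dvd_mul_left n M, fun m' hm' hdvd => ?_⟩
    obtain ⟨j, rfl⟩ := hdvd
    have hj : 0 < j := Nat.pos_of_mul_pos_left hm'
    rw [Nat.mul_div_cancel _ hn, show M * n * j / n = M * j by
      rw [mul_assoc, mul_comm n j, ← mul_assoc, Nat.mul_div_cancel _ hn]]
    have h1 := image_smul_eq_of_divisible B' hB' hM hMc one_pos
    rw [mul_one] at h1
    rw [h1]
    exact image_smul_eq_of_divisible B' hB' hM hMc hj
  · have h := image_smul_eq_of_divisible B' hB' hM hMc one_pos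
    rw [mul_one] at h
    haveI := hD M hM
    exact (divisible_le D M).trans h.le

end Groth.Agent.IndCof16
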