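import Mathlib.CategoryTheory.Abelian.Indization
import Mathlib.CategoryTheory.Abelian.GrothendieckAxioms.Indization
import Mathlib.CategoryTheory.Subobject.ArtinianObject
import Mathlib.CategoryTheory.Subobject.Lattice
import Mathlib.Data.Nat.Factorization.Induction
import Mathlib.Tactic.Abel
import Mathlib.Data.Int.GCD
import Mathlib.Data.Nat.Factorization.Basic
import Groth.Agent.IndCof16.General

/-! Ind-objects of cofinite type of a torsion Artinian abelian category. -/

set_option autoImplicit false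
universe v

open CategoryTheory CategoryTheory.Limits

namespace Groth.Agent.IndCof16

variable {C : Type v} [SmallCategory C] [Abelian C]

/-- Isomorphic to an object of `C`. -/
abbrev Sm (A : Ind C) : Prop := (Ind.yoneda (C := C)).essImage A

/-- The `n`-torsion. -/
noncomputable abbrev Tor (A : Ind C) (n : ℕ) : Ind C := kernel (n • 𝟙 A)

/-- The inclusion of the `n`-torsion. -/
noncomputable abbrev tι (A : Ind C) (n : ℕ) : Tor A n ⟶ A := kernel.ι (n • 𝟙 A)

/-- Cofinite type. -/
abbrev Cof (A : Ind C) : Prop := ∀ n : ℕ, 0 < n → Sm (Tor A n)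

theorem nsmul_tι (A : Ind C) (n : ℕ) : n • tι A n = 0 := by
  rw [← comp_smul_id]
  exact kernel.condition _

/-- A point killed by `n` factors through the torsion. -/
noncomputable abbrev torLift {A W : Ind C} (n : ℕ) (x : W ⟶ A) (h : n • x = 0) : W ⟶ Tor A n :=
  kernel.lift _ x (by rw [comp_smul_id, h])

theorem torLift_ι {A W : Ind C} (n : ℕ) (x : W ⟶ A) (h : n • x = 0) : torLift n x h ≫ tι A n = x :=
  kernel.lift_ι _ _ _

theorem sm_obj (X : C) : Sm ((Ind.yoneda (C := C)).obj X) := Functor.obj_mem_essImage _ X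

theorem sm_of_iso {A B : Ind C} (e : A ≅ B) (h : Sm A) : Sm B := Functor.essImage.ofIso e h

theorem sm_kernel {A B : Ind C} (f : A ⟶ B) (hA : Sm A) (hB : Sm B) : Sm (kernel f) := by
  obtain ⟨X, ⟨a⟩⟩ := hA
  obtain ⟨Y, ⟨b⟩⟩ := hB
  obtain ⟨g, hg⟩ := (Ind.yoneda (C := C)).map_surjective (a.hom ≫ f ≫ b.inv)
  exact sm_of_iso ((PreservesKernel.iso (Ind.yoneda (C := C)) g) ≪≫
    kernel.mapIso ((Ind.yoneda (C := C)).map g) f a b (by rw [hg]; simp)) (sm_obj _)

theorem sm_cokernel {A B : Ind C} (f : A ⟶ B) (hA : Sm A) (hB : Sm B) : Sm (cokernel f) := by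
  obtain ⟨X, ⟨a⟩⟩ := hA
  obtain ⟨Y, ⟨b⟩⟩ := hB
  obtain ⟨g, hg⟩ := (Ind.yoneda (C := C)).map_surjective (a.hom ≫ f ≫ b.inv)
  exact sm_of_iso ((PreservesCokernel.iso (Ind.yoneda (C := C)) g) ≪≫
    cokernel.mapIso ((Ind.yoneda (C := C)).map g) f a b (by rw [hg]; simp)) (sm_obj _)

theorem sm_pullback {A B D : Ind C} (f : A ⟶ D) (g : B ⟶ D) (hA : Sm A) (hB : Sm B) (hD : Sm D) :
    Sm (pullback f g) := by
  obtain ⟨X, ⟨a⟩⟩ := hA
  obtain ⟨Y, ⟨b⟩⟩ := hB
  obtain ⟨Z, ⟨d⟩⟩ := hD
  obtain ⟨f', hf⟩ := (Ind.yoneda (C := C)).map_surjective (a.hom ≫ f ≫ d.inv)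
  obtain ⟨g', hg⟩ := (Ind.yoneda (C := C)).map_surjective (b.hom ≫ g ≫ d.inv)
  exact sm_of_iso ((PreservesPullback.iso (Ind.yoneda (C := C)) f' g') ≪≫
    asIso (pullback.map _ _ f g a.hom b.hom d.hom (by rw [hf]; simp) (by rw [hg]; simp))) (sm_obj _)

/-- The middle of an epimorphism followed by a monomorphism between small objects is small. -/
theorem sm_of_epi_mono {A I B : Ind C} (e : A ⟶ I) [Epi e] (m : I ⟶ B) [Mono m] (hA : Sm A) (hB : Sm B) :
    Sm I := by
  let k := kernel.ι (e ≫ m)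
  have hk : k ≫ e = 0 := by
    rw [← cancel_mono m, Category.assoc, zero_comp]; exact kernel.condition _
  let φ : cokernel k ⟶ I := cokernel.desc k e hk
  haveI : Epi φ := by
    haveI : Epi (cokernel.π k ≫ φ) := by rw [cokernel.π_desc]; infer_instance
    exact epi_of_epi (cokernel.π k) φ
  haveI : Mono φ := Preadditive.mono_of_cancel_zero φ fun {W} z hz => by
    obtain ⟨W', c, a, hc, ha⟩ := exists_cover (cokernel.π k) z
    have h1 : a ≫ e ≫ m = 0 := by
      rw [← Category.assoc, show a ≫ e = 0 by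
        rw [← cokernel.π_desc k e hk, ← Category.assoc, ha, Category.assoc, hz, comp_zero], zero_comp]
    rw [← cancel_epi c, comp_zero, ← ha, ← kernel.lift_ι (e ≫ m) a h1, Category.assoc, cokernel.condition,
      comp_zero]
  haveI : IsIso φ := isIso_of_mono_of_epi φ
  exact sm_of_iso (asIso φ) (sm_cokernel k (sm_kernel _ hA hB) hA)

/-- Maps out of an ind-object are detected on objects of `C`. -/
theorem hom_ext_of_yoneda {A Z : Ind C} {f g : A ⟶ Z}
    (h : ∀ (X : C) (x : (Ind.yoneda (C := C)).obj X ⟶ A), x ≫ f = x ≫ g) : f = g := by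
  rw [← cancel_epi A.colimitPresentationCompYoneda.hom]
  refine colimit.hom_ext fun j => ?_
  rw [← Category.assoc, ← Category.assoc]
  exact h _ _

theorem le_of_points {A : Ind C} {S S' : Subobject A}
    (h : ∀ (X : C) (x : (Ind.yoneda (C := C)).obj X ⟶ A), Mem S x → Mem S' x) : S ≤ S' := by
  have hz : S.arrow ≫ cokernel.π S'.arrow = 0 := hom_ext_of_yoneda fun X x => by
    obtain ⟨z, hz⟩ := h X (x ≫ S.arrow) ⟨x, rfl⟩
    rw [← Category.assoc, ← hz, Category.assoc, cokernel.condition, comp_zero, comp_zero]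
  exact Subobject.le_of_comm (Abelian.monoLift S'.arrow _ hz) (Abelian.monoLift_comp _ _ _)

instance : (Ind.yoneda (C := C)).Additive := Functor.additive_of_preserves_binary_products _

variable (htor : ∀ X : C, ∃ n : ℕ, 0 < n ∧ n • 𝟙 X = 0)
include htor

theorem exists_smul_eq_zero {A : Ind C} (X : C) (x : (Ind.yoneda (C := C)).obj X ⟶ A) :
    ∃ n : ℕ, 0 < n ∧ n • x = 0 := by
  obtain ⟨n, hn, hX⟩ := htor X
  refine ⟨n, hn, ?_⟩
  rw [← smul_id_comp, ← CategoryTheory.Functor.map_id, ← Functor.map_nsmul, hX, Functor.map_zero, zero_comp]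

theorem sm_killed {Q : Ind C} (hQ : Sm Q) : ∃ n : ℕ, 0 < n ∧ n • 𝟙 Q = 0 := by
  obtain ⟨X, ⟨a⟩⟩ := hQ
  obtain ⟨n, hn, h⟩ := exists_smul_eq_zero htor X a.hom
  exact ⟨n, hn, by rw [← cancel_epi a.hom, comp_smul_id, h, comp_zero]⟩

omit htor

theorem smul_eq_zero_of_dvd {A B : Ind C} {x : A ⟶ B} {m n : ℕ} (h : m ∣ n) (hx : m • x = 0) : n • x = 0 := by
  obtain ⟨k, rfl⟩ := h
  rw [mul_comm, mul_smul, hx, smul_zero]

theorem bezout_zero {A B : Ind C} {x : A ⟶ B} {a b : ℕ} (hab : Nat.Coprime a b) (ha : a • x = 0)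
    (hb : b • x = 0) : x = 0 := by
  have h := Nat.gcd_eq_gcd_ab a b
  rw [hab] at h
  have h1 : ((1 : ℕ) : ℤ) • x = 0 := by
    rw [h, add_smul, mul_smul, mul_smul, smul_comm, natCast_zsmul, ha, smul_zero, zero_add,
      smul_comm, natCast_zsmul, hb, smul_zero]
  simpa using h1

section Artinian

variable (hart : ∀ X : C, IsArtinianObject X)
include hart

/-- Images of small objects in a small object satisfy the minimal condition. -/
theorem exists_minimal_image {T : Ind C} (hT : Sm T) {ι : Type} [Nonempty ι] (Y : ι → Ind C)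
    (hY : ∀ i, Sm (Y i)) (f : ∀ i, Y i ⟶ T) :
    ∃ i, ∀ j, imageSubobject (f j) ≤ imageSubobject (f i) → imageSubobject (f i) ≤ imageSubobject (f j) := by
  obtain ⟨X, ⟨t⟩⟩ := hT
  choose X' a using fun i => (⟨(hY i).witness, ⟨(hY i).getIso⟩⟩ : ∃ X', Nonempty ((Ind.yoneda (C := C)).obj X' ≅ Y i))
  choose g hg using fun i => (Ind.yoneda (C := C)).map_surjective ((a i).some.hom ≫ f i ≫ t.inv)
  have hg' : ∀ i, (Ind.yoneda (C := C)).map (g i) ≫ t.hom = (a i).some.hom ≫ f i := fun i => by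
    rw [hg i]; simp
  have key : ∀ i j, imageSubobject (f i) ≤ imageSubobject (f j) ↔ imageSubobject (g i) ≤ imageSubobject (g j) := by
    intro i j
    constructor
    · intro hle
      obtain ⟨W, e, y, he, hy⟩ := exists_of_mem_image (f j) (mem_of_le hle (x := f i)
        (by simpa using mem_image (f i) (𝟙 _)))
      refine image_le _ ?_
      have hz : g i ≫ cokernel.π (g j) = 0 := by
        apply (Ind.yoneda (C := C)).map_injective
        rw [Functor.map_comp, Functor.map_zero, hg i]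
        have hj : f j ≫ t.inv ≫ (Ind.yoneda (C := C)).map (cokernel.π (g j)) = 0 := by
          rw [← cancel_epi (a j).some.hom, comp_zero, ← Category.assoc, ← Category.assoc, Category.assoc _ _ t.inv,
            ← hg j, ← Functor.map_comp, cokernel.condition, Functor.map_zero]
        rw [Category.assoc, Category.assoc]
        have : f i ≫ t.inv ≫ (Ind.yoneda (C := C)).map (cokernel.π (g j)) = 0 := by
          rw [← cancel_epi e, comp_zero, ← Category.assoc e, ← hy, Category.assoc, hj, comp_zero]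
        rw [this, comp_zero]
      obtain ⟨W, e, y, he, hy⟩ := exists_preimage (g j) (g i) hz
      exact mem_descend e (hy ▸ mem_image (g j) y)
    · intro hle
      obtain ⟨W, e, y, he, hy⟩ := exists_of_mem_image (g j) (mem_of_le hle (x := g i)
        (by simpa using mem_image (g i) (𝟙 _)))
      refine image_le _ (mem_descend ((Ind.yoneda (C := C)).map e ≫ (a i).some.hom) ?_)
      rw [Category.assoc, ← hg' i, ← Category.assoc, ← Functor.map_comp, ← hy, Functor.map_comp, Category.assoc,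
        hg' j, ← Category.assoc]
      exact mem_image (f j) _
  haveI := hart X
  obtain ⟨_, ⟨i, rfl⟩, hi⟩ := (wellFounded_lt (α := Subobject X)).has_min
    (Set.range fun i => imageSubobject (g i)) (Set.range_nonempty _)
  refine ⟨i, fun j hj => (key i j).2 ?_⟩
  by_contra hne
  exact hi _ ⟨j, rfl⟩ (lt_of_le_of_ne ((key j i).1 hj) fun e => hne e.ge)

include htor

/-- The prime case of the decomposition `A = A[M] + pA`. -/
theorem decomp_prime {A : Ind C} (hA : Cof A) {p : ℕ} (hp : p.Prime) :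
    ∃ N : ℕ, ∀ (Z : Ind C) (c : A ⟶ Z), tι A (p ^ N) ≫ c = 0 → p • c = 0 → c = 0 := by
  let Y : ℕ → Ind C := fun k => Tor A (p ^ (k + 1))
  have hh : ∀ k, p • ((p ^ k) • tι A (p ^ (k + 1))) = 0 := fun k => by
    rw [smul_smul, ← pow_succ']; exact nsmul_tι A _
  let h : ∀ k, Y k ⟶ Tor A p := fun k => torLift p ((p ^ k) • tι A (p ^ (k + 1))) (hh k)
  have anti : ∀ k j, k ≤ j → imageSubobject (h j) ≤ imageSubobject (h k) := by
    intro k j hkj
    obtain ⟨d, rfl⟩ := Nat.exists_eq_add_of_le hkj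
    have hd : (p ^ (k + 1)) • ((p ^ d) • tι A (p ^ (k + d + 1))) = 0 := by
      rw [smul_smul, ← pow_add, show k + 1 + d = k + d + 1 by ring]; exact nsmul_tι A _
    have : h (k + d) = torLift _ _ hd ≫ h k := by
      rw [← cancel_mono (tι A p), Category.assoc, torLift_ι, torLift_ι, Preadditive.comp_nsmul, torLift_ι,
        smul_smul, ← pow_add]
    exact image_le _ (this ▸ mem_image (h k) _)
  obtain ⟨N, hN⟩ := exists_minimal_image hart (hA p hp.pos) Y (fun k => hA _ (pow_pos hp.pos _)) h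
  refine ⟨N, fun Z c hN0 hpc => ?_⟩
  have pow : ∀ (k : ℕ) {W : Ind C} (x : W ⟶ A), (p ^ k) • x = 0 → x ≫ c = 0 := by
    intro k
    induction k with
    | zero => intro W x hx; rw [pow_zero, one_smul] at hx; rw [hx, zero_comp]
    | succ k ih =>
      intro W x hx
      by_cases hk : k + 1 ≤ N
      · rw [← torLift_ι (p ^ N) x (smul_eq_zero_of_dvd (pow_dvd_pow p hk) hx), Category.assoc, hN0, comp_zero]
      · have hle : imageSubobject (h k) ≤ imageSubobject (h (k + 1)) :=
          (anti N k (by omega)).trans (hN (k + 1) (anti N (k + 1) (by omega)))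
        obtain ⟨W', e, y, he, hy⟩ := exists_of_mem_image (h (k + 1))
          (mem_of_le hle (mem_image (h k) (torLift _ x hx)))
        have hy' := congrArg (· ≫ tι A p) hy
        simp only [Category.assoc, h, torLift_ι, Preadditive.comp_nsmul] at hy'
        have hz : (p ^ k) • (e ≫ x - p • (y ≫ tι A (p ^ (k + 1 + 1)))) = 0 := by
          rw [smul_sub, smul_smul, ← pow_succ, hy', sub_self]
        have := ih _ hz
        rw [Preadditive.sub_comp, Preadditive.nsmul_comp, ← Preadditive.comp_nsmul, hpc, comp_zero, sub_zero,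
          Category.assoc] at this
        exact (cancel_epi e).1 (this.trans comp_zero.symm)
  refine hom_ext_of_yoneda fun X x => ?_
  rw [comp_zero]
  obtain ⟨n, hn, hnx⟩ := exists_smul_eq_zero htor X x
  obtain ⟨k, m, hm, rfl⟩ := Nat.exists_eq_pow_mul_and_not_dvd hn.ne' p hp.ne_one
  refine bezout_zero ((hp.coprime_iff_not_dvd).2 hm) ?_ ?_
  · rw [← Preadditive.comp_nsmul, hpc, comp_zero]
  · rw [← Preadditive.nsmul_comp]
    exact pow k _ (by rw [smul_smul]; exact hnx)

/-- The decomposition `A = A[M] + nA`. -/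
theorem decomp {A : Ind C} (hA : Cof A) (n : ℕ) (hn : 0 < n) :
    ∃ M : ℕ, 0 < M ∧ ∀ (Z : Ind C) (c : A ⟶ Z), tι A M ≫ c = 0 → n • c = 0 → c = 0 := by
  induction n using Nat.recOnMul with
  | zero => omega
  | one => exact ⟨1, one_pos, fun Z c _ h => by rwa [one_smul] at h⟩
  | prime p hp =>
    obtain ⟨N, h⟩ := decomp_prime htor hart hA hp
    exact ⟨p ^ N, pow_pos hp.pos _, h⟩
  | mul a b iha ihb =>
    obtain ⟨M, hM, ha⟩ := iha (Nat.pos_of_mul_pos_right hn)
    obtain ⟨M', hM', hb⟩ := ihb (Nat.pos_of_mul_pos_left hn)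
    refine ⟨M * M', Nat.mul_pos hM hM', fun Z c h0 h1 => hb Z c ?_ (ha Z (b • c) ?_ ?_)⟩
    · rw [← torLift_ι (M * M') (tι A M') (smul_eq_zero_of_dvd (dvd_mul_left _ _) (nsmul_tι A M')),
        Category.assoc, h0, comp_zero]
    · rw [Preadditive.comp_nsmul, ← torLift_ι (M * M') (tι A M)
        (smul_eq_zero_of_dvd (dvd_mul_right _ _) (nsmul_tι A M)), Category.assoc, h0, comp_zero, smul_zero]
    · rw [smul_smul]; exact h1

/-- The decomposition on points. -/
theorem decomp_cover {A : Ind C} (hA : Cof A) (n : ℕ) (hn : 0 < n) :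
    ∃ M : ℕ, 0 < M ∧ ∀ (W : Ind C) (x : W ⟶ A), ∃ (W' : Ind C) (e : W' ⟶ W) (a₀ a₁ : W' ⟶ A),
      Epi e ∧ M • a₀ = 0 ∧ e ≫ x = a₀ + n • a₁ := by
  obtain ⟨M, hM, h⟩ := decomp htor hart hA n hn
  refine ⟨M, hM, fun W x => ?_⟩
  haveI : Epi (biprod.desc (tι A M) (n • 𝟙 A)) := Preadditive.epi_of_cancel_zero _ fun {Z} c hc => by
    have h1 := congrArg (biprod.inl ≫ ·) hc
    have h2 := congrArg (biprod.inr ≫ ·) hc
    simp only [biprod.inl_desc_assoc, biprod.inr_desc_assoc, comp_zero, smul_id_comp] at h1 h2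
    exact h Z c h1 h2
  obtain ⟨W', e, a, he, ha⟩ := exists_cover (biprod.desc (tι A M) (n • 𝟙 A)) x
  refine ⟨W', e, (a ≫ biprod.fst) ≫ tι A M, a ≫ biprod.snd, he, ?_, ?_⟩
  · rw [← Preadditive.comp_nsmul, nsmul_tι, comp_zero]
  · rw [← ha, biprod.desc_eq, Preadditive.comp_add, Category.assoc, comp_smul_id, Preadditive.comp_nsmul]

theorem sm_cokernel_smul {A : Ind C} (hA : Cof A) (n : ℕ) (hn : 0 < n) : Sm (cokernel (n • 𝟙 A)) := by
  obtain ⟨M, hM, hdec⟩ := decomp htor hart hA n hn
  have hh : M • (n • tι A (n * M)) = 0 := by rw [smul_smul, mul_comm]; exact nsmul_tι A _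
  let h : Tor A (n * M) ⟶ Tor A M := torLift M (n • tι A (n * M)) hh
  have hhc : h ≫ tι A M ≫ cokernel.π (n • 𝟙 A) = 0 := by
    have hπ : n • cokernel.π (n • 𝟙 A) = 0 := (smul_id_comp n _).symm.trans (cokernel.condition _)
    rw [← Category.assoc, torLift_ι, Preadditive.nsmul_comp, ← Preadditive.comp_nsmul, hπ, comp_zero]
  let φ : cokernel h ⟶ cokernel (n • 𝟙 A) := cokernel.desc h (tι A M ≫ cokernel.π _) hhc
  haveI : Epi φ := Preadditive.epi_of_cancel_zero φ fun {Z} c hc => by
    have h1 := congrArg (cokernel.π h ≫ ·) hc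
    simp only [φ, cokernel.π_desc_assoc, Category.assoc, comp_zero] at h1
    have h2 : n • (cokernel.π (n • 𝟙 A) ≫ c) = 0 := by
      rw [← smul_id_comp, ← Category.assoc, cokernel.condition, zero_comp]
    rw [← cancel_epi (cokernel.π (n • 𝟙 A)), comp_zero]
    exact hdec Z _ h1 h2
  haveI : Mono φ := Preadditive.mono_of_cancel_zero φ fun {W} z hz => by
    obtain ⟨W₁, e₁, a, he₁, ha⟩ := exists_cover (cokernel.π h) z
    obtain ⟨W₂, e₂, y, he₂, hy⟩ := exists_preimage (n • 𝟙 A) (a ≫ tι A M) (by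
      rw [Category.assoc, ← cokernel.π_desc h (tι A M ≫ cokernel.π (n • 𝟙 A)) hhc, ← Category.assoc, ha,
        Category.assoc, show z ≫ cokernel.desc h _ hhc = 0 from hz, comp_zero])
    rw [comp_smul_id] at hy
    have hyk : (n * M) • y = 0 := by
      rw [mul_comm, mul_smul, hy, ← Preadditive.comp_nsmul, ← Preadditive.comp_nsmul, nsmul_tι, comp_zero,
        comp_zero]
    have : e₂ ≫ a = torLift _ y hyk ≫ h := by
      rw [← cancel_mono (tι A M), Category.assoc, Category.assoc, torLift_ι, Preadditive.comp_nsmul, torLift_ι,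
        hy]
    rw [← cancel_epi e₁, ← cancel_epi e₂, ← ha, ← Category.assoc, this, Category.assoc, cokernel.condition,
      comp_zero, comp_zero, comp_zero]
  haveI : IsIso φ := isIso_of_mono_of_epi φ
  exact sm_of_iso (asIso φ) (sm_cokernel h (hA _ (Nat.mul_pos hn hM)) (hA _ hM))

omit htor hart in
theorem cof_kernel {A B : Ind C} (f : A ⟶ B) (hA : Cof A) (hB : Cof B) : Cof (kernel f) := by
  intro n hn
  have h0 : n • (tι A n ≫ f) = 0 := by rw [← Preadditive.nsmul_comp, nsmul_tι, zero_comp]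
  let fn : Tor A n ⟶ Tor B n := torLift n (tι A n ≫ f) h0
  have h1 : n • (tι (kernel f) n ≫ kernel.ι f) = 0 := by
    rw [← Preadditive.nsmul_comp, nsmul_tι, zero_comp]
  have h2 : torLift n _ h1 ≫ fn = 0 := by
    rw [← cancel_mono (tι B n), Category.assoc, torLift_ι, ← Category.assoc, torLift_ι, Category.assoc,
      kernel.condition, comp_zero, zero_comp]
  have h3 : (kernel.ι fn ≫ tι A n) ≫ f = 0 := by
    rw [Category.assoc, ← torLift_ι n (tι A n ≫ f) h0, ← Category.assoc, kernel.condition, zero_comp]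
  have h4 : n • kernel.lift f _ h3 = 0 := by
    rw [← cancel_mono (kernel.ι f), Preadditive.nsmul_comp, kernel.lift_ι, ← Preadditive.comp_nsmul, nsmul_tι,
      comp_zero, zero_comp]
  refine sm_of_iso ⟨torLift n _ h4, kernel.lift fn _ h2, ?_, ?_⟩ (sm_kernel fn (hA n hn) (hB n hn))
  · rw [← cancel_mono (kernel.ι fn), Category.assoc, kernel.lift_ι, Category.id_comp, ← cancel_mono (tι A n),
      Category.assoc, torLift_ι, ← Category.assoc, torLift_ι, kernel.lift_ι]
  · rw [← cancel_mono (tι (kernel f) n), Category.assoc, torLift_ι, Category.id_comp, ← cancel_mono (kernel.ι f),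
      Category.assoc, kernel.lift_ι, ← Category.assoc, kernel.lift_ι, torLift_ι]

/-- The image of a map between objects of cofinite type. -/
theorem cof_image {A I B : Ind C} (e : A ⟶ I) [Epi e] (g : I ⟶ B) [Mono g] (hA : Cof A) (hB : Cof B) :
    Cof I := by
  intro m hm
  obtain ⟨L, hL, hdec⟩ := decomp_cover htor hart (cof_kernel (e ≫ g) hA hB) m hm
  let T := Tor A (m * L)
  have hu : (m * L) • (m • (tι A (m * L) ≫ e ≫ g)) = 0 := by
    rw [smul_comm, ← Preadditive.nsmul_comp, nsmul_tι, zero_comp, smul_zero]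
  let w : T ⟶ Tor B (m * L) := torLift _ _ hu
  let U := kernel w
  have hU : m • ((kernel.ι w ≫ tι A (m * L)) ≫ e) = 0 := by
    rw [← cancel_mono g, zero_comp, Preadditive.nsmul_comp, Category.assoc, Category.assoc,
      ← Preadditive.comp_nsmul, ← torLift_ι (m * L) _ hu, ← Category.assoc, kernel.condition, zero_comp]
  let q : U ⟶ Tor I m := torLift m _ hU
  haveI : Epi q := (epi_iff_surjective_up_to_refinements q).2 fun {W} z => by
    obtain ⟨W₁, e₁, a, he₁, ha⟩ := exists_cover e (z ≫ tι I m)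
    have hma : (m • a) ≫ e ≫ g = 0 := by
      rw [Preadditive.nsmul_comp, ← Category.assoc, ha, ← Preadditive.nsmul_comp, ← Preadditive.comp_nsmul,
        ← Preadditive.comp_nsmul, nsmul_tι, comp_zero, comp_zero, zero_comp]
    obtain ⟨W₂, e₂, k₀, k₁, he₂, hk₀, hk⟩ := hdec W₁ (kernel.lift (e ≫ g) (m • a) hma)
    let a' := e₂ ≫ a - k₁ ≫ kernel.ι (e ≫ g)
    have hma' : m • a' = k₀ ≫ kernel.ι (e ≫ g) := by
      have := congrArg (· ≫ kernel.ι (e ≫ g)) hk
      simp only [Category.assoc, kernel.lift_ι, Preadditive.add_comp, Preadditive.nsmul_comp,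
        Preadditive.comp_nsmul] at this
      rw [smul_sub, this, add_sub_cancel_right]
    have ha'T : (m * L) • a' = 0 := by
      rw [mul_comm, mul_smul, hma', ← Preadditive.nsmul_comp, hk₀, zero_comp]
    have ha'U : torLift _ a' ha'T ≫ w = 0 := by
      rw [← cancel_mono (tι B (m * L)), Category.assoc, torLift_ι, Preadditive.comp_nsmul, ← Category.assoc,
        torLift_ι, ← Preadditive.nsmul_comp, hma', Category.assoc, kernel.condition, comp_zero, zero_comp]
    have hk1 : (k₁ ≫ kernel.ι (e ≫ g)) ≫ e = 0 := by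
      rw [← cancel_mono g, Category.assoc, Category.assoc, kernel.condition, comp_zero, zero_comp]
    refine ⟨W₂, e₂ ≫ e₁, inferInstance, kernel.lift w _ ha'U, ?_⟩
    rw [← cancel_mono (tι I m), Category.assoc, Category.assoc, Category.assoc, torLift_ι, ← Category.assoc _ _ e,
      ← Category.assoc (kernel.lift w _ _), kernel.lift_ι, torLift_ι, Preadditive.sub_comp, hk1, sub_zero,
      Category.assoc, ha]
  have hg : m • (tι I m ≫ g) = 0 := by rw [← Preadditive.nsmul_comp, nsmul_tι, zero_comp]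
  haveI : Mono (torLift m (tι I m ≫ g) hg) := by
    haveI : Mono (torLift m (tι I m ≫ g) hg ≫ tι B m) := by rw [torLift_ι]; infer_instance
    exact mono_of_mono _ (tι B m)
  exact sm_of_epi_mono q (torLift m (tι I m ≫ g) hg)
    (sm_kernel w (hA _ (Nat.mul_pos hm hL)) (hB _ (Nat.mul_pos hm hL))) (hB m hm)

/-- The cokernel of a monomorphism between objects of cofinite type. -/
theorem cof_quotient {I B Q : Ind C} (g : I ⟶ B) [Mono g] (q : B ⟶ Q) [Epi q] (w : g ≫ q = 0)
    (hex : ∀ (W : Ind C) (x : W ⟶ B), x ≫ q = 0 → ∃ y : W ⟶ I, y ≫ g = x) (hI : Cof I) (hB : Cof B) :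
    Cof Q := by
  intro n hn
  obtain ⟨M, hM, hdec⟩ := decomp_cover htor hart hI n hn
  have hα : M • (n • tι B (n * M)) = 0 := by rw [smul_smul, mul_comm]; exact nsmul_tι B _
  let α : Tor B (n * M) ⟶ Tor B M := torLift _ _ hα
  have hβ : M • (tι I M ≫ g) = 0 := by rw [← Preadditive.nsmul_comp, nsmul_tι, zero_comp]
  let β : Tor I M ⟶ Tor B M := torLift _ _ hβ
  let P := pullback α β
  have hP : n • (pullback.fst α β ≫ tι B (n * M)) = pullback.snd α β ≫ tι I M ≫ g := by
    rw [← Preadditive.comp_nsmul, ← torLift_ι M _ hα, ← Category.assoc, pullback.condition, Category.assoc,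
      torLift_ι]
  have hPQ : n • ((pullback.fst α β ≫ tι B (n * M)) ≫ q) = 0 := by
    rw [← Preadditive.nsmul_comp, hP, Category.assoc, Category.assoc, w, comp_zero, comp_zero]
  let r : P ⟶ Tor Q n := torLift n _ hPQ
  have hs1 : (n * M) • (tι I (n * M) ≫ g) = 0 := by rw [← Preadditive.nsmul_comp, nsmul_tι, zero_comp]
  have hs2 : M • (n • tι I (n * M)) = 0 := by rw [smul_smul, mul_comm]; exact nsmul_tι I _
  let s : Tor I (n * M) ⟶ P := pullback.lift (torLift _ _ hs1) (torLift _ _ hs2) (by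
    rw [← cancel_mono (tι B M), Category.assoc, Category.assoc, torLift_ι, torLift_ι, Preadditive.comp_nsmul,
      torLift_ι, ← Category.assoc, torLift_ι, Preadditive.nsmul_comp])
  have hsr : s ≫ r = 0 := by
    rw [← cancel_mono (tι Q n), Category.assoc, torLift_ι, zero_comp, ← Category.assoc, ← Category.assoc,
      pullback.lift_fst, torLift_ι, Category.assoc, w, comp_zero]
  let φ : cokernel s ⟶ Tor Q n := cokernel.desc s r hsr
  haveI : Epi r := (epi_iff_surjective_up_to_refinements r).2 fun {W} z => by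
    obtain ⟨W₁, e₁, b, he₁, hb⟩ := exists_cover q (z ≫ tι Q n)
    have hnb : (n • b) ≫ q = 0 := by
      rw [Preadditive.nsmul_comp, hb, ← Preadditive.comp_nsmul, ← Preadditive.comp_nsmul, nsmul_tι, comp_zero,
        comp_zero]
    obtain ⟨a, ha⟩ := hex _ _ hnb
    obtain ⟨W₂, e₂, a₀, a₁, he₂, ha₀, hsum⟩ := hdec W₁ a
    let b' := e₂ ≫ b - a₁ ≫ g
    have hnb' : n • b' = a₀ ≫ g := by
      have := congrArg (· ≫ g) hsum
      simp only [Category.assoc, ha, Preadditive.add_comp, Preadditive.nsmul_comp, Preadditive.comp_nsmul] at this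
      rw [smul_sub, this, add_sub_cancel_right]
    have hb'T : (n * M) • b' = 0 := by
      rw [mul_comm, mul_smul, hnb', ← Preadditive.nsmul_comp, ha₀, zero_comp]
    refine ⟨W₂, e₂ ≫ e₁, inferInstance, pullback.lift (torLift _ b' hb'T) (torLift _ a₀ ha₀) ?_, ?_⟩
    · rw [← cancel_mono (tι B M), Category.assoc, Category.assoc, torLift_ι, torLift_ι, Preadditive.comp_nsmul,
        torLift_ι, ← Category.assoc, torLift_ι, hnb']
    · have key : ∀ (l : W₂ ⟶ P), l ≫ pullback.fst α β = torLift _ b' hb'T →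
          (l ≫ r) ≫ tι Q n = b' ≫ q := fun l hl => by
        rw [Category.assoc, torLift_ι, ← Category.assoc, ← Category.assoc, hl, torLift_ι]
      refine (cancel_mono (tι Q n)).1 ?_
      rw [key _ (pullback.lift_fst _ _ _), Preadditive.sub_comp, Category.assoc a₁, w, comp_zero, sub_zero,
        Category.assoc e₂ b q, hb]
      exact (Category.assoc _ _ _).trans (Category.assoc e₂ e₁ _)
  haveI : Epi φ := by
    haveI : Epi (cokernel.π s ≫ φ) := by rw [cokernel.π_desc]; infer_instance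
    exact epi_of_epi (cokernel.π s) φ
  haveI : Mono φ := Preadditive.mono_of_cancel_zero φ fun {W} z hz => by
    obtain ⟨W', c, p, hc, hp⟩ := exists_cover (cokernel.π s) z
    have hp0 : p ≫ r = 0 := by
      rw [← cokernel.π_desc s r hsr, ← Category.assoc, hp, Category.assoc, hz, comp_zero]
    have hp1 : ((p ≫ pullback.fst α β) ≫ tι B (n * M)) ≫ q = 0 := by
      have := congrArg (· ≫ tι Q n) hp0
      simp only [Category.assoc, r, torLift_ι, zero_comp] at this ⊢
      exact this
    obtain ⟨y, hy⟩ := hex _ _ hp1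
    have hyk : (n * M) • y = 0 := by
      rw [← cancel_mono g, Preadditive.nsmul_comp, hy, ← Preadditive.comp_nsmul, nsmul_tι, comp_zero, zero_comp]
    have hps : p = torLift _ y hyk ≫ s := by
      apply pullback.hom_ext
      · rw [← cancel_mono (tι B (n * M)), Category.assoc (torLift _ y hyk), pullback.lift_fst, Category.assoc,
          Category.assoc, torLift_ι, ← Category.assoc (torLift _ y hyk), torLift_ι, hy, Category.assoc]
      · rw [← cancel_mono (tι I M), ← cancel_mono g, Category.assoc (torLift _ y hyk), pullback.lift_snd,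
          Category.assoc (torLift _ y hyk), torLift_ι, Preadditive.comp_nsmul, torLift_ι,
          Preadditive.nsmul_comp, hy, Category.assoc, Category.assoc, ← hP, ← Preadditive.comp_nsmul,
          Category.assoc, ← Preadditive.comp_nsmul, ← Preadditive.comp_nsmul]
    rw [← cancel_epi c, comp_zero, ← hp, hps, Category.assoc, cokernel.condition, comp_zero]
  haveI : IsIso φ := isIso_of_mono_of_epi φ
  exact sm_of_iso (asIso φ) (sm_cokernel s (hI _ (Nat.mul_pos hn hM))
    (sm_pullback α β (hB _ (Nat.mul_pos hn hM)) (hI _ hM) (hB _ hM)))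

theorem cof_cokernel {A B : Ind C} (f : A ⟶ B) (hA : Cof A) (hB : Cof B) : Cof (cokernel f) := by
  have hI : Cof (Abelian.image f) :=
    cof_image htor hart (Abelian.factorThruImage f) (Abelian.image.ι f) hA hB
  exact cof_quotient htor hart (Abelian.image.ι f) (cokernel.π f) (kernel.condition _)
    (fun W x hx => ⟨kernel.lift _ x hx, kernel.lift_ι _ _ _⟩) hI hB

theorem cof_imageSubobject {A B : Ind C} (f : A ⟶ B) (hA : Cof A) (hB : Cof B) :
    Cof ((imageSubobject f : Subobject B) : Ind C) :=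
  cof_image htor hart (factorThruImageSubobject f) (imageSubobject f).arrow hA hB

/-- For each prime the multiples `p^k A` stabilize. -/
theorem exists_stable_prime {A : Ind C} (hA : Cof A) {p : ℕ} (hp : p.Prime) :
    ∃ N : ℕ, ∀ k, N ≤ k → imageSubobject ((p ^ k) • 𝟙 A) = imageSubobject ((p ^ N) • 𝟙 A) := by
  obtain ⟨M, hM, hdec⟩ := decomp_cover htor hart hA p hp.pos
  obtain ⟨a, m, hm, rfl⟩ := Nat.exists_eq_pow_mul_and_not_dvd hM.ne' p hp.ne_one
  have step : imageSubobject ((p ^ a) • 𝟙 A) ≤ imageSubobject ((p ^ (a + 1)) • 𝟙 A) := by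
    refine image_le _ ?_
    obtain ⟨W, e, a₀, a₁, he, ha₀, hsum⟩ := hdec A (𝟙 A)
    refine mem_descend e ?_
    have hd : m • (p ^ a • a₀) = 0 := by rw [smul_smul, mul_comm]; exact ha₀
    have h2 : p • (p ^ a • (a₁)) = (p ^ (a + 1)) • a₁ := by rw [smul_smul, ← pow_succ']
    obtain ⟨u, v, huv⟩ : ∃ u v : ℤ, (1 : ℤ) = (m : ℤ) * u + (p : ℤ) * v := by
      refine ⟨Nat.gcdA m p, Nat.gcdB m p, ?_⟩
      have := Nat.gcd_eq_gcd_ab m p
      rw [Nat.coprime_comm.1 ((hp.coprime_iff_not_dvd).2 hm)] at this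
      simpa using this
    have hp0 : p ^ a • a₀ = (p ^ (a + 1)) • (v • a₀) := by
      rw [← one_zsmul (p ^ a • a₀), huv, add_smul, mul_smul, mul_smul, natCast_zsmul, smul_comm m u, hd,
        smul_zero, zero_add, natCast_zsmul, smul_comm v, smul_smul, ← pow_succ']
    rw [Category.comp_id] at hsum
    rw [comp_smul_id, hsum, smul_add, hp0, smul_comm (p ^ a) p a₁, h2, ← smul_add]
    exact mem_smul _ _
  have stepk : ∀ d, imageSubobject ((p ^ a) • 𝟙 A) ≤ imageSubobject ((p ^ (a + d)) • 𝟙 A) := by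
    intro d
    induction d with
    | zero => simp
    | succ d ih =>
      refine ih.trans (image_le _ ?_)
      have hx : Mem (imageSubobject ((p ^ (a + 1)) • 𝟙 A)) ((p ^ a) • 𝟙 A) :=
        mem_of_le step (by simpa using mem_image ((p ^ a) • 𝟙 A) (𝟙 A))
      obtain ⟨W, e, b, he, hb⟩ := exists_of_mem_image _ hx
      refine mem_descend e ?_
      rw [comp_smul_id, show p ^ (a + d) = p ^ d * p ^ a by rw [pow_add, mul_comm], mul_smul, ← comp_smul_id (p ^ a) e,
        ← hb, comp_smul_id, smul_smul, ← pow_add, show d + (a + 1) = a + (d + 1) by ring]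
      exact mem_smul _ _
  refine ⟨a, fun k hk => le_antisymm ?_ ?_⟩ <;> obtain ⟨d, rfl⟩ := Nat.exists_eq_add_of_le hk
  · rw [pow_add]; exact image_smul_comp_le _ _
  · exact stepk d

theorem exists_stable_chain {A : Ind C} (hA : Cof A) (S : ℕ → Subobject A) (hS : Antitone S)
    {p : ℕ} (hp : p.Prime) (hcof : ∀ m, Cof ((S m : Subobject A) : Ind C))
    (hpow : ∀ (X : C) (x : (Ind.yoneda (C := C)).obj X ⟶ A), ∃ k : ℕ, (p ^ k) • x = 0) :
    ∃ N : ℕ, ∀ m : ℕ, N ≤ m → S m = S N := by
  let Y : ℕ × ℕ → Ind C := fun i => Tor (S i.1 : Ind C) (p ^ (i.2 + 1))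
  have hh : ∀ i : ℕ × ℕ, p • ((p ^ i.2) • (tι (S i.1 : Ind C) (p ^ (i.2 + 1)) ≫ (S i.1).arrow)) = 0 := fun i => by
    rw [smul_smul, ← pow_succ', ← Preadditive.nsmul_comp, nsmul_tι, zero_comp]
  let h : ∀ i, Y i ⟶ Tor A p := fun i => torLift p _ (hh i)
  have hY : ∀ i, Sm (Y i) := fun i => hcof _ _ (pow_pos hp.pos _)
  have anti : ∀ m m' k k', m ≤ m' → k ≤ k' → imageSubobject (h (m', k')) ≤ imageSubobject (h (m, k)) := by
    intro m m' k k' hm hk
    obtain ⟨d, rfl⟩ := Nat.exists_eq_add_of_le hk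
    have hd : (p ^ (k + 1)) • ((p ^ d) • (tι (S m' : Ind C) (p ^ (k + d + 1)) ≫ (S m').ofLE (S m) (hS hm))) = 0 := by
      rw [smul_smul, ← pow_add, show k + 1 + d = k + d + 1 by ring, ← Preadditive.nsmul_comp, nsmul_tι, zero_comp]
    have : h (m', k + d) = torLift _ _ hd ≫ h (m, k) := by
      rw [← cancel_mono (tι A p), Category.assoc, torLift_ι, torLift_ι, Preadditive.comp_nsmul, ← Category.assoc,
        torLift_ι, Preadditive.nsmul_comp, Category.assoc, Subobject.ofLE_arrow, smul_smul, ← pow_add]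
    exact image_le _ (this ▸ mem_image (h (m, k)) _)
  obtain ⟨⟨m₀, k₀⟩, hmin⟩ := exists_minimal_image hart (hA p hp.pos) Y hY h
  choose μ hμ using fun k => exists_minimal_image hart (hA p hp.pos) (fun m => Y (m, k)) (fun m => hY _)
    (fun m => h (m, k))
  let N := m₀ + (Finset.range k₀).sup μ
  have stab : ∀ m k, N ≤ m → imageSubobject (h (N, k)) ≤ imageSubobject (h (m, k)) := by
    intro m k hm
    by_cases hk : k < k₀
    · have hNk : μ k ≤ N := le_trans (Finset.le_sup (f := μ) (Finset.mem_range.2 hk)) (Nat.le_add_left _ _)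
      exact (anti _ _ _ _ hNk le_rfl).trans (hμ k m (anti _ _ _ _ (hNk.trans hm) le_rfl))
    · exact (anti _ _ _ _ (Nat.le_add_right _ _) (not_lt.1 hk)).trans
        (hmin (m, k) (anti _ _ _ _ ((Nat.le_add_right _ _).trans hm) (not_lt.1 hk)))
  refine ⟨N, fun m hm => le_antisymm (hS hm) ?_⟩
  have key : ∀ (k : ℕ) {W : Ind C} (x : W ⟶ A), (p ^ k) • x = 0 → Mem (S N) x → Mem (S m) x := by
    intro k
    induction k with
    | zero => intro W x hx _; rw [pow_zero, one_smul] at hx; exact ⟨0, by rw [zero_comp, hx]⟩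
    | succ k ih =>
      intro W x hx hxN
      obtain ⟨z, hz⟩ := hxN
      have hzk : (p ^ (k + 1)) • z = 0 := by
        rw [← cancel_mono (S N).arrow, Preadditive.nsmul_comp, hz, hx, zero_comp]
      obtain ⟨W', e, y, he, hy⟩ := exists_of_mem_image (h (m, k))
        (mem_of_le (stab m k hm) (mem_image (h (N, k)) (torLift _ z hzk)))
      have hy' := congrArg (· ≫ tι A p) hy
      simp only [Category.assoc, h, torLift_ι, Preadditive.comp_nsmul] at hy'
      rw [← Category.assoc (torLift (p ^ (k + 1)) z hzk), torLift_ι, hz] at hy'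
      have hmy : Mem (S m) (y ≫ tι (S m : Ind C) (p ^ (k + 1)) ≫ (S m).arrow) :=
        ⟨y ≫ tι _ _, Category.assoc _ _ _⟩
      refine mem_descend e ?_
      have hd := ih (e ≫ x - y ≫ tι (S m : Ind C) (p ^ (k + 1)) ≫ (S m).arrow)
        (by rw [smul_sub, hy', sub_self]) (by
          rw [sub_eq_add_neg]
          refine mem_add (mem_comp e ⟨z, hz⟩) ?_
          obtain ⟨t, ht⟩ := mem_of_le (hS hm) hmy
          exact ⟨-t, by rw [Preadditive.neg_comp, ht]⟩)
      simpa using mem_add hd hmy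
  refine le_of_points fun X x hx => ?_
  obtain ⟨k, hk⟩ := hpow X x
  exact key k x hk hx

end Artinian

end Groth.Agent.IndCof16
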