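import Groth.Agent.IndCof16.Cof

/-! Consequences for ind-objects of cofinite type. -/

set_option autoImplicit false
universe v

open CategoryTheory CategoryTheory.Limits

namespace Groth.Agent.IndCof16

section General

universe v' u'
variable {V : Type u'} [Category.{v'} V] [Abelian V]

theorem epi_smul_mul {D : V} (a b : ℕ) [Epi (a • 𝟙 D)] [Epi (b • 𝟙 D)] : Epi ((a * b) • 𝟙 D) := by
  have h : (a • 𝟙 D) ≫ (b • 𝟙 D) = (a * b) • 𝟙 D := by rw [comp_smul_id, smul_smul, mul_comm]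
  rw [← h]
  infer_instance

theorem epi_smul_pow {D : V} (p : ℕ) [Epi (p • 𝟙 D)] : ∀ n : ℕ, Epi ((p ^ n) • 𝟙 D)
  | 0 => by rw [pow_zero, one_smul]; infer_instance
  | n + 1 => by
    haveI := epi_smul_pow (D := D) p n
    rw [pow_succ]
    exact epi_smul_mul _ _

theorem mem_smul_self {A : V} (M : ℕ) : Mem (imageSubobject (M • 𝟙 A)) (M • 𝟙 A) :=
  mem_smul M (𝟙 A)

theorem stab_mul {A : V} {M a b : ℕ} (ha : Mem (imageSubobject ((M * a) • 𝟙 A)) (M • 𝟙 A))
    (hb : Mem (imageSubobject ((M * b) • 𝟙 A)) (M • 𝟙 A)) :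
    Mem (imageSubobject ((M * (a * b)) • 𝟙 A)) (M • 𝟙 A) := by
  obtain ⟨W, e, y, he, hy⟩ := exists_of_mem_image _ ha
  obtain ⟨W', e', z, he', hz⟩ := exists_of_mem_image _ (mem_comp y hb)
  refine mem_descend (e' ≫ e) ?_
  have : (e' ≫ e) ≫ (M • 𝟙 A) = (M * (a * b)) • z := by
    rw [Category.assoc, ← hy, comp_smul_id, mul_comm M a, mul_smul, ← comp_smul_id M y, Preadditive.comp_nsmul,
      ← hz, comp_smul_id, smul_smul]
    congr 1
    ring
  rw [this]
  exact mem_smul _ _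

/-- The cokernel of an image is the cokernel. -/
noncomputable def cokernelImageIso {A B : V} (f : A ⟶ B) :
    cokernel f ≅ cokernel (imageSubobject f).arrow where
  hom := cokernel.desc f (cokernel.π _) (by
    refine ((congrArg (· ≫ cokernel.π (imageSubobject f).arrow) (imageSubobject_arrow_comp f)).symm.trans ?_)
    rw [Category.assoc, cokernel.condition, comp_zero])
  inv := cokernel.desc _ (cokernel.π f) (by
    rw [← cancel_epi (factorThruImageSubobject f), ← Category.assoc, imageSubobject_arrow_comp, cokernel.condition,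
      comp_zero])
  hom_inv_id := by apply coequalizer.hom_ext; simp
  inv_hom_id := by apply coequalizer.hom_ext; simp

end General

variable {C : Type v} [SmallCategory C] [Abelian C]

section Prime

variable {p : ℕ} (hp : p.Prime) (htor : ∀ X : C, ∃ n : ℕ, (p ^ n) • 𝟙 X = 0)
include hp htor

theorem htor_of_pow : ∀ X : C, ∃ n : ℕ, 0 < n ∧ n • 𝟙 X = 0 := fun X =>
  ⟨p ^ (htor X).choose, pow_pos hp.pos _, (htor X).choose_spec⟩

omit hp in
theorem exists_pow_smul_zero {A : Ind C} (X : C) (x : (Ind.yoneda (C := C)).obj X ⟶ A) :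
    ∃ k : ℕ, (p ^ k) • x = 0 := by
  obtain ⟨n, hX⟩ := htor X
  refine ⟨n, ?_⟩
  rw [← smul_id_comp, ← CategoryTheory.Functor.map_id, ← Functor.map_nsmul, hX, Functor.map_zero, zero_comp]

theorem cof_of_pow {A : Ind C} (hA : ∀ n : ℕ, Sm (kernel ((p ^ n) • 𝟙 A))) : Cof A := by
  intro n hn
  obtain ⟨a, m, hm, rfl⟩ := Nat.exists_eq_pow_mul_and_not_dvd hn.ne' p hp.ne_one
  have h : (p ^ a) • tι A (p ^ a * m) = 0 := hom_ext_of_yoneda fun X x => by
    obtain ⟨k, hk⟩ := exists_pow_smul_zero htor X x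
    rw [comp_zero, Preadditive.comp_nsmul]
    refine bezout_zero (Nat.Coprime.pow_left k ((hp.coprime_iff_not_dvd).2 hm)) ?_ ?_
    · rw [smul_comm, ← Preadditive.nsmul_comp, hk, zero_comp, smul_zero]
    · rw [smul_smul, mul_comm, ← Preadditive.comp_nsmul, nsmul_tι, comp_zero]
  refine sm_of_iso ⟨torLift _ (tι A (p ^ a)) (smul_eq_zero_of_dvd (dvd_mul_right _ _) (nsmul_tι A _)),
    torLift _ _ h, ?_, ?_⟩ (hA a)
  · rw [← cancel_mono (tι A (p ^ a)), Category.assoc, torLift_ι, torLift_ι, Category.id_comp]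
  · rw [← cancel_mono (tι A (p ^ a * m)), Category.assoc, torLift_ι, torLift_ι, Category.id_comp]

theorem divisiblePart (hart : ∀ X : C, IsArtinianObject X)
    (A : Ind C) (hA : ∀ n : ℕ, Sm (kernel ((p ^ n) • 𝟙 A))) (N : ℕ)
    (hN : ∀ n : ℕ, N ≤ n → imageSubobject ((p ^ n) • 𝟙 A) = imageSubobject ((p ^ N) • 𝟙 A)) :
    (∀ n : ℕ, Sm (kernel ((p ^ n) • 𝟙 ((imageSubobject ((p ^ N) • 𝟙 A) : Subobject A) : Ind C)))) ∧
      Epi (p • 𝟙 ((imageSubobject ((p ^ N) • 𝟙 A) : Subobject A) : Ind C)) ∧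
      (∀ D : Subobject A, Epi (p • 𝟙 (D : Ind C)) → D ≤ imageSubobject ((p ^ N) • 𝟙 A)) ∧
      (∀ (Q : Ind C) (q : A ⟶ Q), Epi q → Sm Q → (imageSubobject ((p ^ N) • 𝟙 A)).arrow ≫ q = 0) := by
  have hC := cof_imageSubobject (htor_of_pow hp htor) hart ((p ^ N) • 𝟙 A) (cof_of_pow hp htor hA)
    (cof_of_pow hp htor hA)
  have hE : Epi (p • 𝟙 ((imageSubobject ((p ^ N) • 𝟙 A) : Subobject A) : Ind C)) :=
    epi_smul_image (p ^ N) p (by rw [← pow_succ]; exact hN (N + 1) (Nat.le_succ N))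
  refine ⟨fun n => hC _ (pow_pos hp.pos n), hE, fun D hD => ?_, fun Q q _ hQ => ?_⟩
  · haveI := hD
    haveI := epi_smul_pow (D := (D : Ind C)) p N
    exact divisible_le D _
  · obtain ⟨X, ⟨t⟩⟩ := hQ
    obtain ⟨k, hk⟩ := exists_pow_smul_zero htor X t.hom
    haveI := hE
    haveI := epi_smul_pow (D := ((imageSubobject ((p ^ N) • 𝟙 A) : Subobject A) : Ind C)) p k
    have hk' : (p ^ k) • 𝟙 Q = 0 := by rw [← cancel_epi t.hom, comp_smul_id, hk, comp_zero]
    rw [← cancel_epi ((p ^ k) • 𝟙 ((imageSubobject ((p ^ N) • 𝟙 A) : Subobject A) : Ind C)), comp_zero,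
      smul_id_comp]
    exact (comp_smul_id _ _).symm.trans (by rw [hk', comp_zero])

end Prime

section Torsion

variable (htor : ∀ X : C, ∃ n : ℕ, 0 < n ∧ n • 𝟙 X = 0) (hart : ∀ X : C, IsArtinianObject X)
  {A : Ind C} (hA : Cof A)
include htor hart hA

/-- For finitely many primes the multiples stabilize simultaneously. -/
theorem exists_stable_primes (S : Finset ℕ) (hS : ∀ p ∈ S, p.Prime) :
    ∃ M : ℕ, 0 < M ∧ ∀ p ∈ S, Mem (imageSubobject ((M * p) • 𝟙 A)) (M • 𝟙 A) := by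
  induction S using Finset.induction with
  | empty => exact ⟨1, one_pos, by simp⟩
  | insert q S hq ih =>
    obtain ⟨M, hM, h⟩ := ih fun p hp => hS p (Finset.mem_insert_of_mem hp)
    obtain ⟨N, hN⟩ := exists_stable_prime htor hart hA (hS q (Finset.mem_insert_self _ _))
    refine ⟨M * q ^ N, Nat.mul_pos hM (pow_pos (hS q (Finset.mem_insert_self _ _)).pos _), fun p hp => ?_⟩
    have key : ∀ (c d x : ℕ), Mem (imageSubobject ((c * x) • 𝟙 A)) (c • 𝟙 A) →
        Mem (imageSubobject ((c * d * x) • 𝟙 A)) ((c * d) • 𝟙 A) := by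
      intro c d x hc
      obtain ⟨W, e, y, he, hy⟩ := exists_of_mem_image _ hc
      refine mem_descend e ?_
      have : e ≫ ((c * d) • 𝟙 A) = (c * d * x) • y := by
        rw [mul_comm c d, mul_smul, Preadditive.comp_nsmul, ← hy, comp_smul_id, smul_smul, mul_assoc]
      rw [this]
      exact mem_smul _ _
    rcases Finset.mem_insert.1 hp with rfl | hp'
    · rw [mul_comm M]
      refine key _ _ _ ?_
      rw [← pow_succ, hN _ (Nat.le_succ N)]
      exact mem_smul_self _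
    · exact key _ _ _ (h p hp')

theorem ml_iff_sm :
    ((∀ n : ℕ, 0 < n → ∃ m : ℕ, 0 < m ∧ n ∣ m ∧ ∀ m' : ℕ, 0 < m' → m ∣ m' →
        imageSubobject ((m' / n) • 𝟙 A) = imageSubobject ((m / n) • 𝟙 A)) ↔
      ∃ B' : Subobject A, (∀ k : ℕ, 0 < k → Epi (k • 𝟙 (B' : Ind C))) ∧ Sm (cokernel B'.arrow)) ∧
    ((∃ B' : Subobject A, (∀ k : ℕ, 0 < k → Epi (k • 𝟙 (B' : Ind C))) ∧ Sm (cokernel B'.arrow)) ↔
      {p : ℕ | p.Prime ∧ ¬ Epi (p • 𝟙 A)}.Finite) := by
  refine ⟨⟨fun h => ?_, fun ⟨B', h1, h2⟩ => (ml_iff A).1.2 ⟨B', h1, sm_killed htor h2⟩⟩,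
    ⟨fun ⟨B', h1, h2⟩ => ?_, fun hfin => ?_⟩⟩
  · obtain ⟨B', h1, M, hM, hMc⟩ := (ml_iff A).1.1 h
    refine ⟨B', h1, ?_⟩
    have e := image_smul_eq_of_divisible B' h1 hM hMc one_pos
    rw [mul_one] at e
    subst e
    exact sm_of_iso (cokernelImageIso _) (sm_cokernel_smul htor hart hA M hM)
  · obtain ⟨M, hM, hMc⟩ := sm_killed htor h2
    refine (Set.finite_le_nat M).subset fun p hp => ?_
    show p ≤ M
    refine Nat.le_of_dvd hM (by_contra fun hnd => hp.2 ?_)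
    refine Preadditive.epi_of_cancel_zero _ fun {Z} c hc => ?_
    rw [smul_id_comp] at hc
    haveI := h1 p hp.1.pos
    have hb : B'.arrow ≫ c = 0 := by
      rw [← cancel_epi (p • 𝟙 (B' : Ind C)), comp_zero, smul_id_comp, ← Preadditive.comp_nsmul, hc, comp_zero]
    refine bezout_zero ((hp.1.coprime_iff_not_dvd).2 hnd) hc ?_
    rw [← cokernel.π_desc B'.arrow c hb, ← Preadditive.comp_nsmul, ← smul_id_comp, hMc, zero_comp, comp_zero]
  · obtain ⟨M, hM, hst⟩ := exists_stable_primes htor hart hA hfin.toFinset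
      (fun p hp => ((Set.Finite.mem_toFinset hfin).1 hp).1)
    have hall : ∀ k : ℕ, 0 < k → Mem (imageSubobject ((M * k) • 𝟙 A)) (M • 𝟙 A) := by
      intro k
      induction k using Nat.recOnMul with
      | zero => intro h; omega
      | one => intro _; rw [mul_one]; exact mem_smul_self M
      | prime p hp =>
        intro _
        by_cases hE : Epi (p • 𝟙 A)
        · obtain ⟨W, e, y, he, hy⟩ := exists_cover (p • 𝟙 A) (𝟙 A)
          refine mem_descend e ?_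
          have : e ≫ (M • 𝟙 A) = (M * p) • y := by
            rw [comp_smul_id, mul_smul, ← comp_smul_id p y, hy, Category.comp_id]
          rw [this]
          exact mem_smul _ _
        · exact hst p ((Set.Finite.mem_toFinset hfin).2 ⟨hp, hE⟩)
      | mul a b iha ihb =>
        intro h
        exact stab_mul (iha (Nat.pos_of_mul_pos_right h)) (ihb (Nat.pos_of_mul_pos_left h))
    refine ⟨imageSubobject (M • 𝟙 A), fun k hk => epi_smul_image M k
      (le_antisymm (image_smul_comp_le M k) (image_le _ (hall k hk))),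
      sm_of_iso (cokernelImageIso _) (sm_cokernel_smul htor hart hA M hM)⟩

/-- Torsion points of a deep enough multiple are infinitely divisible. -/
theorem exists_deep (n : ℕ) (hn : 0 < n) :
    ∃ M₀ : ℕ, 0 < M₀ ∧ ∀ M : ℕ, 0 < M → ∀ (j : ℕ) (W : Ind C) (x : W ⟶ A),
      Mem (imageSubobject (M₀ • 𝟙 A)) x → (n ^ j) • x = 0 →
      ∃ (j' : ℕ) (W' : Ind C) (e : W' ⟶ W) (y : W' ⟶ A),
        Epi e ∧ Mem (imageSubobject (M₀ • 𝟙 A)) y ∧ (n ^ j') • y = 0 ∧ M • y = e ≫ x := by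
  obtain ⟨M₀, hM₀, hst⟩ := exists_stable_primes htor hart hA n.primeFactors
    (fun p hp => Nat.prime_of_mem_primeFactors hp)
  refine ⟨M₀, hM₀, fun M => ?_⟩
  induction M using Nat.recOnMul with
  | zero => intro h; omega
  | one => intro _ j W x hx hj; exact ⟨j, W, 𝟙 W, x, inferInstance, hx, hj, by rw [one_smul, Category.id_comp]⟩
  | prime p hp =>
    intro _ j W x hx hj
    by_cases hd : p ∣ n
    · have hle := mem_of_le (image_le _ (hst p (Nat.mem_primeFactors.2 ⟨hp, hd, hn.ne'⟩))) hx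
      obtain ⟨W', e, w, he, hw⟩ := exists_of_mem_image _ hle
      rw [comp_smul_id, mul_comm, mul_smul] at hw
      refine ⟨j + 1, W', e, M₀ • w, he, mem_smul M₀ w, ?_, hw⟩
      obtain ⟨r, hr⟩ := hd
      have : (n ^ j) • (p • (M₀ • w)) = 0 := by rw [hw, ← Preadditive.comp_nsmul, hj, comp_zero]
      rw [smul_smul] at this
      refine smul_eq_zero_of_dvd ⟨r, ?_⟩ this
      rw [pow_succ, hr]; ring
    · have hco : Nat.Coprime p (n ^ j) := Nat.Coprime.pow_right j ((hp.coprime_iff_not_dvd).2 hd)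
      have hb := Nat.gcd_eq_gcd_ab p (n ^ j)
      rw [hco] at hb
      refine ⟨j, W, 𝟙 W, (Nat.gcdA p (n ^ j)) • x, inferInstance, ?_, ?_, ?_⟩
      · exact ⟨(Nat.gcdA p (n ^ j)) • hx.choose, by rw [Preadditive.zsmul_comp, hx.choose_spec]⟩
      · rw [smul_comm, hj, smul_zero]
      · rw [Category.id_comp]
        calc p • ((Nat.gcdA p (n ^ j)) • x)
            = ((p : ℤ) * Nat.gcdA p (n ^ j)) • x + (((n ^ j : ℕ) : ℤ) * Nat.gcdB p (n ^ j)) • x := by
              rw [mul_smul, natCast_zsmul, mul_smul, natCast_zsmul, smul_comm (n ^ j), hj, smul_zero, add_zero]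
          _ = x := by rw [← add_smul, ← hb, Nat.cast_one, one_smul]
  | mul a b iha ihb =>
    intro h j W x hx hj
    obtain ⟨j₁, W₁, e₁, y₁, he₁, hy₁, hj₁, hM₁⟩ := iha (Nat.pos_of_mul_pos_right h) j W x hx hj
    obtain ⟨j₂, W₂, e₂, y₂, he₂, hy₂, hj₂, hM₂⟩ := ihb (Nat.pos_of_mul_pos_left h) j₁ W₁ y₁ hy₁ hj₁
    refine ⟨j₂, W₂, e₂ ≫ e₁, y₂, inferInstance, hy₂, hj₂, ?_⟩
    rw [mul_smul, hM₂, ← Preadditive.comp_nsmul, hM₁, Category.assoc]

theorem exists_largest_divisible :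
    ∃ D : Subobject A, (∀ k : ℕ, 0 < k → Epi (k • 𝟙 (D : Ind C))) ∧
      (∀ D' : Subobject A, (∀ k : ℕ, 0 < k → Epi (k • 𝟙 (D' : Ind C))) → D' ≤ D) ∧
      (∀ n : ℕ, 0 < n → Sm (kernel (n • 𝟙 (D : Ind C)))) ∧
      (∀ n : ℕ, 0 < n → Sm (kernel (n • 𝟙 (cokernel D.arrow)))) := by
  let T : Set (Subobject A) := {S | ∃ M : ℕ, 0 < M ∧ S = imageSubobject (M • 𝟙 A)}
  let D : Subobject A := sInf T
  have hDM : ∀ M : ℕ, 0 < M → D ≤ imageSubobject (M • 𝟙 A) := fun M hM => sInf_le ⟨M, hM, rfl⟩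
  -- torsion points of a deep multiple lie in `D`
  have hdeep : ∀ n : ℕ, 0 < n → ∃ M₀ : ℕ, 0 < M₀ ∧ ∀ (j : ℕ) (W : Ind C) (x : W ⟶ A),
      Mem (imageSubobject (M₀ • 𝟙 A)) x → (n ^ j) • x = 0 → Mem D x := by
    intro n hn
    obtain ⟨M₀, hM₀, h⟩ := exists_deep htor hart hA n hn
    refine ⟨M₀, hM₀, fun j W x hx hj => ?_⟩
    refine mem_of_le (show imageSubobject x ≤ D from le_sInf ?_) (by simpa using mem_image x (𝟙 W))
    rintro S ⟨M, hM, rfl⟩
    obtain ⟨_, W', e, y, he, -, -, hy⟩ := h M hM j W x hx hj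
    exact image_le _ (mem_descend e (hy ▸ mem_smul M y))
  have hdiv : ∀ k : ℕ, 0 < k → Epi (k • 𝟙 (D : Ind C)) := fun k hk =>
    Preadditive.epi_of_cancel_zero _ fun {Z} c hc => hom_ext_of_yoneda fun X z => by
      rw [comp_zero]
      obtain ⟨n, hn, hnz⟩ := exists_smul_eq_zero htor X (z ≫ D.arrow)
      obtain ⟨M₀, hM₀, h⟩ := exists_deep htor hart hA (k * n) (Nat.mul_pos hk hn)
      obtain ⟨M₁, hM₁, hD⟩ := hdeep (k * n) (Nat.mul_pos hk hn)
      obtain ⟨M₂, hM₂, h₂⟩ := exists_deep htor hart hA (k * n) (Nat.mul_pos hk hn)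
      have hxn : ((k * n) ^ 1) • (z ≫ D.arrow) = 0 := by
        rw [pow_one]; exact smul_eq_zero_of_dvd (dvd_mul_left _ _) hnz
      obtain ⟨j', W', e, y, he, hy, hj', hky⟩ :=
        h₂ k hk 1 _ (z ≫ D.arrow) (mem_of_le (hDM M₂ hM₂) ⟨z, rfl⟩) hxn
      obtain ⟨j₃, W₃, e₃, y₃, he₃, -, hj₃, hy₃⟩ := h₂ M₁ hM₁ j' W' y hy hj'
      obtain ⟨z', hz'⟩ : Mem D (e₃ ≫ y) := hD j' W₃ (e₃ ≫ y) (hy₃ ▸ mem_smul M₁ y₃)
        (by rw [← Preadditive.comp_nsmul, hj', comp_zero])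
      have hzz : (e₃ ≫ e) ≫ z = k • z' := by
        rw [← cancel_mono D.arrow, Preadditive.nsmul_comp, hz', Category.assoc, Category.assoc, ← hky,
          Preadditive.comp_nsmul]
      rw [smul_id_comp] at hc
      rw [← cancel_epi (e₃ ≫ e), ← Category.assoc, hzz, comp_zero, Preadditive.nsmul_comp, ← Preadditive.comp_nsmul,
        hc, comp_zero]
  have hcof : Cof (D : Ind C) := by
    intro n hn
    obtain ⟨M₀, hM₀, h⟩ := hdeep n hn
    let S := imageSubobject (M₀ • 𝟙 A)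
    have hS : Sm (Tor (S : Ind C) n) := cof_imageSubobject htor hart _ hA hA n hn
    obtain ⟨z, hz⟩ := h 1 _ (tι (S : Ind C) n ≫ S.arrow) ⟨_, rfl⟩
      (by rw [pow_one, ← Preadditive.nsmul_comp, nsmul_tι, zero_comp])
    have hz0 : n • z = 0 := by
      rw [← cancel_mono D.arrow, Preadditive.nsmul_comp, hz, ← Preadditive.nsmul_comp, nsmul_tι, zero_comp,
        zero_comp]
    have hι : n • (tι (D : Ind C) n ≫ D.ofLE S (hDM M₀ hM₀)) = 0 := by
      rw [← Preadditive.nsmul_comp, nsmul_tι, zero_comp]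
    refine sm_of_iso ⟨torLift n z hz0, torLift n _ hι, ?_, ?_⟩ hS
    · rw [← cancel_mono (tι (S : Ind C) n), ← cancel_mono S.arrow, Category.assoc (torLift n z hz0), torLift_ι,
        ← Category.assoc (torLift n z hz0), torLift_ι, Category.assoc, Subobject.ofLE_arrow, hz, Category.id_comp]
    · rw [← cancel_mono (tι (D : Ind C) n), ← cancel_mono D.arrow, Category.assoc (torLift n _ hι), torLift_ι,
        Category.assoc, hz, ← Category.assoc, torLift_ι, Category.assoc, Subobject.ofLE_arrow, Category.id_comp]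
  refine ⟨D, hdiv, fun D' hD' => le_sInf ?_, hcof, cof_cokernel htor hart D.arrow hcof hA⟩
  rintro S ⟨M, hM, rfl⟩
  haveI := hD' M hM
  exact divisible_le D' M

end Torsion

end Groth.Agent.IndCof16
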